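import Groth.Agent.FlatInjLib.AssFibre
import Groth.Prelude.Def_FlatCA

/-!
# Universal injectivity of completion along a section of a smooth algebra with integral fibres
-/

set_option autoImplicit false
set_option backward.isDefEq.respectTransparency false
set_option linter.style.haveILetI false

universe u

open CategoryTheory CategoryTheory.Limits AlgebraicGeometry TensorProduct

noncomputable section

namespace AdicInjLib

variable {A B : Type u} [CommRing A] [CommRing B] [Algebra A B]

/-- The rings of the geometric fibres are domains. -/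
theorem isDomain_tensor (hgi : FlatCA.GeomIntegralFibres A B) (K : Type u) [Field K] [Algebra A K] :
    IsDomain (K ⊗[A] B) := by
  haveI := hgi
  let b := Spec.map (CommRingCat.ofHom (algebraMap A K))
  let φm := Spec.map (CommRingCat.ofHom (algebraMap A B))
  haveI : IsIntegral (pullback φm b) :=
    GeometricallyIntegral.geometrically_isIntegral b _ _ (IsPullback.of_hasPullback φm b)
  let i := pullbackSymmetry φm b ≪≫ pullbackSpecIso A K B
  haveI : IsIntegral (Spec (CommRingCat.of (K ⊗[A] B))) := by
    haveI : Nonempty ↥(Spec (CommRingCat.of (K ⊗[A] B))) := ⟨i.hom (Classical.arbitrary ↥(pullback φm b))⟩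
    exact isIntegral_of_isOpenImmersion i.inv
  exact (affine_isIntegral_iff (CommRingCat.of (K ⊗[A] B))).1 inferInstance

/-- What dies modulo an ideal after tensoring lies in the product with that ideal. -/
theorem mem_smul_top_of_rTensor_eq_zero (J : Ideal B) {M : Type u} [AddCommGroup M] [Module A M] (z : B ⊗[A] M)
    (hz : (Ideal.Quotient.mkₐ A J).toLinearMap.rTensor M z = 0) : z ∈ J • (⊤ : Submodule B (B ⊗[A] M)) := by
  have hex : Function.Exact (J.restrictScalars A).subtype (Ideal.Quotient.mkₐ A J).toLinearMap := by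
    rw [LinearMap.exact_iff, Submodule.range_subtype]
    ext x
    exact Ideal.Quotient.eq_zero_iff_mem
  obtain ⟨w, rfl⟩ := ((rTensor_exact M hex Ideal.Quotient.mk_surjective) z).1 hz
  induction w using TensorProduct.induction_on with
  | zero => rw [map_zero]; exact zero_mem _
  | add x y hx hy =>
    rw [map_add]
    refine add_mem (hx ?_) (hy ?_) <;>
      exact (rTensor_exact M hex Ideal.Quotient.mk_surjective _).2 ⟨_, rfl⟩
  | tmul i m =>
    rw [LinearMap.rTensor_tmul, show ((J.restrictScalars A).subtype i) ⊗ₜ[A] m = (i : B) • ((1 : B) ⊗ₜ[A] m) by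
      rw [TensorProduct.smul_tmul', smul_eq_mul, mul_one]; rfl]
    exact Submodule.smul_mem_smul i.2 Submodule.mem_top

variable [IsNoetherianRing A] [Algebra.Smooth A B]

theorem eq_zero_of_forall_mod_pow (hfib : FlatCA.GeomIntegralFibres A B) (u : B →ₐ[A] A)
    {M : Type u} [AddCommGroup M] [Module A M] [Module.Finite A M] (z : B ⊗[A] M)
    (hz : ∀ n : ℕ, (Ideal.Quotient.mkₐ A (RingHom.ker u ^ n)).toLinearMap.rTensor M z = 0) : z = 0 := by
  classical
  haveI : IsNoetherianRing B := Algebra.FiniteType.isNoetherianRing A B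
  obtain ⟨⟨r, hr⟩, hrz⟩ := (Ideal.mem_iInf_smul_pow_eq_bot_iff (RingHom.ker u) z).1
    ((Submodule.mem_iInf _).2 fun n => mem_smul_top_of_rTensor_eq_zero _ z (hz n))
  by_contra hne
  obtain ⟨p, q, _, _, _, hP, hann⟩ := FlatInjLib.exists_relAss_annihilator_le (S := B) M z hne
  have hg : (1 - r) ∈ q := hann _ (by
    rw [_root_.sub_smul (1 : B) r z, one_smul]
    exact sub_eq_zero.2 hrz.symm)
  haveI := isDomain_tensor hfib p.ResidueField
  haveI := IsAssociatedPrime.isPrime hP
  haveI : IsNoetherianRing (p.Fiber B) := Algebra.FiniteType.isNoetherianRing p.ResidueField _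
  obtain ⟨-, x, hx⟩ := isAssociatedPrime_iff.1 hP
  letI : Algebra B (p.Fiber B) := Algebra.TensorProduct.rightAlgebra
  let e : FlatCA.fiberMod p B B ≃ₗ[p.Fiber B] p.Fiber B :=
    TensorProduct.AlgebraTensorModule.rid B (p.Fiber B) (p.Fiber B)
  have hx0 : e x ≠ 0 := fun h0 => (IsAssociatedPrime.isPrime hP).ne_top (by
    rw [hx, (LinearEquiv.map_eq_zero_iff e).1 h0]
    exact (Ideal.eq_top_iff_one _).2 (Submodule.mem_colon_singleton.2 (smul_zero _)))
  have h0 : (Algebra.TensorProduct.includeRight (R := A) (A := p.ResidueField) (B := B)) (1 - r) = 0 := by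
    have h2 : (Algebra.TensorProduct.includeRight (R := A) (A := p.ResidueField) (B := B)) (1 - r) ∈
        FlatCA.fiberIdeal p q := Ideal.mem_map_of_mem _ hg
    rw [hx, Submodule.mem_colon_singleton, Submodule.mem_bot] at h2
    have h3 := congrArg e h2
    rw [map_smul, map_zero, smul_eq_mul] at h3
    exact (mul_eq_zero.1 h3).resolve_right hx0
  have h1 := congrArg (Algebra.TensorProduct.lift (AlgHom.id A p.ResidueField)
    ((IsScalarTower.toAlgHom A A p.ResidueField).comp u) fun _ _ => Commute.all _ _) h0
  rw [Algebra.TensorProduct.includeRight_apply, Algebra.TensorProduct.lift_tmul, map_one, one_mul, map_zero,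
    AlgHom.comp_apply, map_sub, map_one, RingHom.mem_ker.1 hr, sub_zero, map_one] at h1
  exact one_ne_zero h1

theorem univInj_of_truncations (hfib : FlatCA.GeomIntegralFibres A B) (u : B →ₐ[A] A)
    {Bh : Type u} [CommRing Bh] [Algebra B Bh] [Algebra A Bh] [IsScalarTower A B Bh]
    (hq : ∀ n : ℕ, Function.Bijective (Ideal.quotientMap ((RingHom.ker u ^ n).map (algebraMap B Bh))
      (algebraMap B Bh) Ideal.le_comap_map)) :
    FlatCA.UnivInj A (IsScalarTower.toAlgHom A B Bh).toLinearMap := by
  intro Q _ _
  rw [injective_iff_map_eq_zero]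
  intro z hz
  let f := (IsScalarTower.toAlgHom A B Bh).toLinearMap
  obtain ⟨P, hP, t, rfl⟩ := TensorProduct.exists_of_fg z
  have hw : P.subtype.rTensor Bh (f.lTensor P t) = 0 := by
    rw [← LinearMap.comp_apply, LinearMap.rTensor_comp_lTensor, ← LinearMap.lTensor_comp_rTensor]
    exact hz
  obtain ⟨P', hPP', hP', hw'⟩ := TensorProduct.eq_zero_of_fg_of_subtype_eq_zero hP hw
  let t' := (Submodule.inclusion hPP').rTensor B t
  suffices ht' : t' = 0 by
    rw [← Submodule.subtype_comp_inclusion _ _ hPP', LinearMap.rTensor_comp, LinearMap.comp_apply,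
      show (Submodule.inclusion hPP').rTensor B t = 0 from ht', map_zero]
  haveI : Module.Finite A P' := Module.Finite.iff_fg.2 hP'
  have ht : f.lTensor P' t' = 0 := by
    rw [← LinearMap.comp_apply, LinearMap.lTensor_comp_rTensor, ← LinearMap.rTensor_comp_lTensor]
    exact hw'
  suffices h : TensorProduct.comm A P' B t' = 0 from (LinearEquiv.map_eq_zero_iff _).1 h
  refine eq_zero_of_forall_mod_pow hfib u _ fun n => ?_
  let L : (B ⧸ RingHom.ker u ^ n) →ₗ[A] Bh ⧸ (RingHom.ker u ^ n).map (algebraMap B Bh) :=
    (Ideal.quotientMapₐ _ (IsScalarTower.toAlgHom A B Bh) Ideal.le_comap_map).toLinearMap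
  have hL : Function.Bijective L := hq n
  apply ((LinearEquiv.ofBijective L hL).rTensor P').injective
  rw [map_zero]
  show L.rTensor P' ((Ideal.Quotient.mkₐ A _).toLinearMap.rTensor P' _) = 0
  rw [← LinearMap.rTensor_comp_apply,
    show L.comp (Ideal.Quotient.mkₐ A (RingHom.ker u ^ n)).toLinearMap =
      (Ideal.Quotient.mkₐ A _).toLinearMap.comp f from LinearMap.ext fun _ => rfl,
    LinearMap.rTensor_comp_apply]
  have h2 : ∀ w : P' ⊗[A] B, f.rTensor P' (TensorProduct.comm A P' B w) = TensorProduct.comm A P' Bh (f.lTensor P' w) :=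
    fun w => by
      induction w using TensorProduct.induction_on with
      | zero => simp
      | add x y hx hy => simp only [map_add, hx, hy]
      | tmul _ _ => rfl
  rw [h2, ht, map_zero, map_zero]

end AdicInjLib
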